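import Mathlib

/-! A derivation of a ring extends to its adic completion. -/

namespace Groth.Agent.AdicDerLib

variable {k A : Type*} [CommRing k] [CommRing A] [Algebra k A] (I : Ideal A) (D : Derivation k A A)

theorem apply_mem_pow : ∀ (n : ℕ) (a : A), a ∈ I ^ (n + 1) → D a ∈ I ^ n := by
  intro n
  induction n with
  | zero => intro a _; simp
  | succ n ih =>
    intro a ha
    rw [pow_succ'] at ha
    refine Submodule.mul_induction_on ha (fun b hb c hc => ?_)
      (fun b c hb hc => by rw [map_add]; exact add_mem hb hc)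
    rw [Derivation.leibniz, smul_eq_mul, smul_eq_mul]
    refine add_mem ?_ (Ideal.mul_mem_right _ _ hc)
    rw [pow_succ']
    exact Ideal.mul_mem_mul hb (ih c hc)

theorem smul_top_eq (n : ℕ) : (I ^ n • ⊤ : Ideal A) = I ^ n := by
  rw [smul_eq_mul, Ideal.mul_top]

theorem mk_eq_mk_of (n : ℕ) (a b : A)
    (h : Ideal.Quotient.mk (I ^ (n + 1) • ⊤ : Ideal A) a = Ideal.Quotient.mk (I ^ (n + 1) • ⊤ : Ideal A) b) :
    Ideal.Quotient.mk (I ^ n • ⊤ : Ideal A) (D a) = Ideal.Quotient.mk (I ^ n • ⊤ : Ideal A) (D b) := by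
  rw [Ideal.Quotient.eq, smul_top_eq] at h ⊢
  rw [← map_sub]
  exact apply_mem_pow I D n _ h

/-- A representative of the `n`-th component. -/
noncomputable def rep (x : AdicCompletion I A) (n : ℕ) : A :=
  (Ideal.Quotient.mk_surjective (x.val n)).choose

theorem mk_rep (x : AdicCompletion I A) (n : ℕ) :
    Ideal.Quotient.mk (I ^ n • ⊤ : Ideal A) (rep I x n) = x.val n :=
  (Ideal.Quotient.mk_surjective (x.val n)).choose_spec

theorem mk_of_le (x : AdicCompletion I A) {m n : ℕ} (hmn : m ≤ n) (a : A)
    (ha : Ideal.Quotient.mk (I ^ n • ⊤ : Ideal A) a = x.val n) :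
    Ideal.Quotient.mk (I ^ m • ⊤ : Ideal A) a = x.val m := by
  rw [← x.2 hmn, ← ha]
  rfl

/-- The underlying function. -/
noncomputable def extFun (x : AdicCompletion I A) : AdicCompletion I A :=
  ⟨fun n => Ideal.Quotient.mk (I ^ n • ⊤ : Ideal A) (D (rep I x (n + 1))), fun {m n} hmn => by
    show Ideal.Quotient.mk (I ^ m • ⊤ : Ideal A) (D (rep I x (n + 1))) = _
    refine mk_eq_mk_of I D m _ _ ?_
    rw [mk_rep, mk_of_le I x (by omega) _ (mk_rep I x (n + 1))]⟩

theorem extFun_val (x : AdicCompletion I A) (n : ℕ) (a : A)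
    (ha : Ideal.Quotient.mk (I ^ (n + 1) • ⊤ : Ideal A) a = x.val (n + 1)) :
    (extFun I D x).val n = Ideal.Quotient.mk (I ^ n • ⊤ : Ideal A) (D a) :=
  mk_eq_mk_of I D n _ _ ((mk_rep I x (n + 1)).trans ha.symm)

theorem extFun_add (x y : AdicCompletion I A) : extFun I D (x + y) = extFun I D x + extFun I D y := by
  refine AdicCompletion.ext fun n => ?_
  rw [AdicCompletion.val_add_apply, extFun_val I D x n _ (mk_rep I x _), extFun_val I D y n _ (mk_rep I y _),
    extFun_val I D (x + y) n (rep I x (n + 1) + rep I y (n + 1))]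
  · rw [map_add, map_add]
  · rw [map_add, mk_rep, mk_rep, AdicCompletion.val_add_apply]

theorem extFun_smul (r : k) (x : AdicCompletion I A) : extFun I D (r • x) = r • extFun I D x := by
  refine AdicCompletion.ext fun n => ?_
  rw [AdicCompletion.val_smul_apply, extFun_val I D x n _ (mk_rep I x _),
    extFun_val I D (r • x) n (r • rep I x (n + 1))]
  · rw [D.map_smul]; rfl
  · rw [AdicCompletion.val_smul_apply, ← mk_rep]; rfl

theorem extFun_mul (x y : AdicCompletion I A) : extFun I D (x * y) = x * extFun I D y + y * extFun I D x := by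
  refine AdicCompletion.ext fun n => ?_
  rw [AdicCompletion.val_add_apply, AdicCompletion.val_mul, AdicCompletion.val_mul,
    extFun_val I D x n _ (mk_rep I x _), extFun_val I D y n _ (mk_rep I y _),
    extFun_val I D (x * y) n (rep I x (n + 1) * rep I y (n + 1)),
    ← mk_of_le I x (Nat.le_succ n) _ (mk_rep I x _), ← mk_of_le I y (Nat.le_succ n) _ (mk_rep I y _)]
  · rw [← map_mul, ← map_mul, ← map_add, Derivation.leibniz]
    rfl
  · rw [map_mul, mk_rep, mk_rep, AdicCompletion.val_mul]

theorem extFun_algebraMap (a : A) :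
    extFun I D (algebraMap A (AdicCompletion I A) a) = algebraMap A (AdicCompletion I A) (D a) := by
  refine AdicCompletion.ext fun n => ?_
  rw [extFun_val I D _ n a rfl]
  rfl

/-- The extension of `D` to the completion. -/
noncomputable def ext : Derivation k (AdicCompletion I A) (AdicCompletion I A) :=
  Derivation.mk'
    { toFun := extFun I D
      map_add' := extFun_add I D
      map_smul' := extFun_smul I D }
    fun x y => extFun_mul I D x y

theorem ext_algebraMap (a : A) :
    ext I D (algebraMap A (AdicCompletion I A) a) = algebraMap A (AdicCompletion I A) (D a) :=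
  extFun_algebraMap I D a

end Groth.Agent.AdicDerLib
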